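import Groth.Agent.H72.HensGRing
import Groth.Agent.H72.HensFormal

/-!
# Formal fibres of local ind-étale extensions with trivial residue field extension
-/

set_option autoImplicit false
set_option linter.style.haveILetI false
universe u

open TensorProduct IsLocalRing Groth.Agent.H14.HensProp

namespace Groth.Agent.H78.PairHensG

/-- Let `R → S` be a flat local homomorphism of Noetherian local rings with `𝔪_R S = 𝔪_S`, trivial
residue field extension, and `S` a union of images of étale `R`-algebras.  If `R → R̂` is regular,
so is `S → Ŝ`. -/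
theorem isRegularHom_cpl_of_local_inEtImage {R S : Type u} [CommRing R] [CommRing S]
    [IsLocalRing R] [IsLocalRing S] [IsNoetherianRing R] [IsNoetherianRing S] [Algebra R S]
    [IsLocalHom (algebraMap R S)] [Module.Flat R S]
    (hmax : (maximalIdeal R).map (algebraMap R S) = maximalIdeal S)
    (hres : ∀ b : S, ∃ a : R, b - algebraMap R S a ∈ maximalIdeal S)
    (hU : ∀ x : S, InEtImage R S {x})
    (hR : CAlg.IsRegularHom R (AdicCompletion (maximalIdeal R) R)) :
    CAlg.IsRegularHom S (AdicCompletion (maximalIdeal S) S) := by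
  obtain ⟨φ, hφ⟩ := Groth.Agent.H72.HensFormal.exists_complEquiv (R := R) (S := S) hmax hres
  haveI : IsNoetherianRing (AdicCompletion (maximalIdeal S) S) :=
    Groth.Agent.H20.isNoetherianRing_adicCompletion _
  refine ⟨inferInstance, fun q hq => ⟨Groth.Agent.H26.SkFlat.isNoetherianRing_fiber _ q, ?_⟩⟩
  intro k' _ _ hfin
  exact Groth.Agent.H72.HensFormalFibres.formalFibre_of_inEtImage
    (fun X _ => IsRegularRing X)
    (fun X Y _ _ e h => @IsRegularRing.of_ringEquiv _ _ _ _ e h)
    (fun X Y _ _ _ M _ h => Groth.Agent.H72.HensGRing.isRegularRing_of_isLocalization X Y M h)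
    φ hφ hU (fun p _ k'' _ _ hf => (hR.2 p).2 k'' hf) q k'

end Groth.Agent.H78.PairHensG
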