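import Groth.Agent.H78.PairHensG.Local
import Groth.Agent.H57.GRingMax
import Groth.Agent.H3.HensNoeth
import Groth.Agent.H3.HensUnion
import Groth.Agent.H3.PairHens
import Groth.Agent.H3.HensFlatMain

/-!
# The henselization of a pair `(A, I)` with `A` a G-ring is a G-ring
-/

set_option autoImplicit false
set_option linter.style.haveILetI false
universe u

open TensorProduct IsLocalRing Groth.Agent.H14.HensProp

namespace Groth.Agent.H78.PairHensG

open Hens2 Groth.Agent.H3

variable {A : Type u} [CommRing A] {I : Ideal A} {B : Type u} [CommRing B] [Algebra A B]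

theorem map_le_of_isMaximal (hB : IsPairHenselization A I B) (n : Ideal B) [hn : n.IsMaximal] :
    I.map (algebraMap A B) ≤ n :=
  hB.1.jac.trans (sInf_le ⟨bot_le, hn⟩)

theorem le_comap_of_isMaximal (hB : IsPairHenselization A I B) (n : Ideal B) [hn : n.IsMaximal] :
    I ≤ n.comap (algebraMap A B) := by
  intro i hi
  exact map_le_of_isMaximal hB n (Ideal.mem_map_of_mem _ hi)

/-- every maximal ideal of the henselization is extended from `A` -/
theorem eq_map_comap (hB : IsPairHenselization A I B) (n : Ideal B) [hn : n.IsMaximal] :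
    (n.comap (algebraMap A B)).map (algebraMap A B) = n := by
  refine le_antisymm Ideal.map_comap_le ?_
  intro b hb
  obtain ⟨a, ha⟩ := PairHens.exists_sub_mem hB b
  have h1 : b - algebraMap A B a ∈ n := map_le_of_isMaximal hB n ha
  have h2 : algebraMap A B a ∈ n := by
    have := n.sub_mem hb h1
    rwa [sub_sub_cancel] at this
  have h3 : algebraMap A B a ∈ (n.comap (algebraMap A B)).map (algebraMap A B) :=
    Ideal.mem_map_of_mem _ h2
  have h4 : b - algebraMap A B a ∈ (n.comap (algebraMap A B)).map (algebraMap A B) :=
    Ideal.map_mono (le_comap_of_isMaximal hB n) ha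
  have := Ideal.add_mem _ h4 h3
  rwa [sub_add_cancel] at this

set_option maxHeartbeats 800000 in
/-- **S9276**: the henselization of a pair `(A, I)` with `A` a G-ring is a G-ring. -/
theorem isGRing_pairHens (hA : CAlg.IsGRing A) (hB : IsPairHenselization A I B) :
    CAlg.IsGRing B := by
  haveI : IsNoetherianRing A := hA.1
  haveI : IsNoetherianRing B := HensNoeth.isNoetherianRing hB
  rw [Groth.Agent.H57.GRingMax.isGRing_iff_forall_maximal]
  intro n hn
  let m : Ideal A := n.comap (algebraMap A B)
  haveI hmP : m.IsPrime := Ideal.comap_isPrime _ _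
  let R := Localization.AtPrime m
  let S := Localization.AtPrime n
  haveI : IsNoetherianRing R := IsLocalization.isNoetherianRing m.primeCompl R inferInstance
  haveI : IsNoetherianRing S := IsLocalization.isNoetherianRing n.primeCompl S inferInstance
  letI algRS : Algebra R S := (Localization.localRingHom m n (algebraMap A B) rfl).toAlgebra
  haveI : IsLocalHom (algebraMap R S) :=
    Localization.isLocalHom_localRingHom m n (algebraMap A B) rfl
  haveI : IsScalarTower A B S := inferInstance
  haveI : IsScalarTower A R S := IsScalarTower.of_algebraMap_eq fun x => by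
    rw [IsScalarTower.algebraMap_apply A B S]
    exact (Localization.localRingHom_to_map m n (algebraMap A B) rfl x).symm
  haveI hflatAB : Module.Flat A B := HensFlatMain.flat hB
  haveI : Module.Flat R S := by
    have h1 : (algebraMap A B).Flat := RingHom.flat_algebraMap_iff.mpr hflatAB
    exact RingHom.flat_algebraMap_iff.mp (h1.localRingHom n m rfl)
  -- `𝔪_R S = 𝔪_S`
  have hmax : (maximalIdeal R).map (algebraMap R S) = maximalIdeal S := by
    rw [← Localization.AtPrime.map_eq_maximalIdeal, ← Localization.AtPrime.map_eq_maximalIdeal,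
      Ideal.map_map, ← IsScalarTower.algebraMap_eq, IsScalarTower.algebraMap_eq A B S,
      ← Ideal.map_map, eq_map_comap hB n]
  have hmemS : ∀ b : B, b ∈ n → algebraMap B S b ∈ maximalIdeal S := fun b hb =>
    (IsLocalization.AtPrime.to_map_mem_maximal_iff S n b).mpr hb
  have hunitS : ∀ b : B, b ∉ n → IsUnit (algebraMap B S b) := fun b hb =>
    IsLocalization.map_units S (⟨b, hb⟩ : n.primeCompl)
  -- trivial residue field extension
  have hres : ∀ s : S, ∃ r : R, s - algebraMap R S r ∈ maximalIdeal S := by
    intro s
    obtain ⟨b, t, rfl⟩ := IsLocalization.exists_mk'_eq n.primeCompl s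
    obtain ⟨a, ha⟩ := PairHens.exists_sub_mem hB b
    obtain ⟨at', hat⟩ := PairHens.exists_sub_mem hB (t : B)
    have ha' : b - algebraMap A B a ∈ n := map_le_of_isMaximal hB n ha
    have hat' : (t : B) - algebraMap A B at' ∈ n := map_le_of_isMaximal hB n hat
    have hatn : algebraMap A B at' ∉ n := by
      intro h
      have := n.add_mem hat' h
      rw [sub_add_cancel] at this
      exact t.2 this
    have hatm : at' ∈ m.primeCompl := hatn
    refine ⟨IsLocalization.mk' R a (⟨at', hatm⟩ : m.primeCompl), ?_⟩
    have hu : IsUnit (algebraMap B S ((t : B) * algebraMap A B at')) := by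
      rw [map_mul]
      exact (hunitS _ t.2).mul (hunitS _ hatn)
    rw [← Ideal.mul_unit_mem_iff_mem _ hu]
    have h1 : IsLocalization.mk' S b t * algebraMap B S (t : B) = algebraMap B S b :=
      IsLocalization.mk'_spec S b t
    have h2 : algebraMap R S (IsLocalization.mk' R a (⟨at', hatm⟩ : m.primeCompl)) *
        algebraMap B S (algebraMap A B at') = algebraMap B S (algebraMap A B a) := by
      have h3 := congrArg (algebraMap R S)
        (IsLocalization.mk'_spec R a (⟨at', hatm⟩ : m.primeCompl))
      rw [map_mul, ← IsScalarTower.algebraMap_apply A R S, ← IsScalarTower.algebraMap_apply A R S,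
        IsScalarTower.algebraMap_apply A B S, IsScalarTower.algebraMap_apply A B S] at h3
      exact h3
    have h4 : (IsLocalization.mk' S b t -
        algebraMap R S (IsLocalization.mk' R a (⟨at', hatm⟩ : m.primeCompl))) *
        algebraMap B S ((t : B) * algebraMap A B at') =
        algebraMap B S ((b - algebraMap A B a) * algebraMap A B at' -
          algebraMap A B a * ((t : B) - algebraMap A B at')) := by
      simp only [map_sub, map_mul]
      rw [← h1, ← h2]
      ring
    rw [h4]
    exact hmemS _ (n.sub_mem (n.mul_mem_right _ ha') (n.mul_mem_left _ hat'))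
  -- union of étale images
  have hU : ∀ x : S, InEtImage R S {x} := by
    intro x
    obtain ⟨b, t, rfl⟩ := IsLocalization.exists_mk'_eq n.primeCompl x
    classical
    obtain ⟨E, _, _, hEt, φ, hφ⟩ :=
      (HensUnion.isUnion_of_isPairHenselization hB).finset {b, (t : B)}
    obtain ⟨eb, heb⟩ := hφ (show b ∈ ((({b, (t : B)} : Finset B)) : Set B) by simp)
    obtain ⟨et, het⟩ := hφ (show (t : B) ∈ ((({b, (t : B)} : Finset B)) : Set B) by simp)
    let Et := Localization.Away et
    haveI : Algebra.Etale E Et := Algebra.Etale.of_isLocalizationAway et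
    haveI : Algebra.Etale A Et := Algebra.Etale.comp A E Et
    let f₀ : E →ₐ[A] S := (IsScalarTower.toAlgHom A B S).comp φ
    have hf₀ : ∀ y : Submonoid.powers et, IsUnit (f₀ y) := by
      rintro ⟨_, k, rfl⟩
      change IsUnit (f₀ (et ^ k))
      rw [map_pow]
      refine IsUnit.pow k ?_
      change IsUnit (algebraMap B S (φ et))
      rw [het]
      exact hunitS _ t.2
    let ψ : Et →ₐ[A] S := IsLocalization.liftAlgHom (M := Submonoid.powers et) (f := f₀) hf₀
    let Φ : R ⊗[A] Et →ₐ[R] S :=
      Algebra.TensorProduct.lift (Algebra.ofId R S) ψ (fun _ _ => Commute.all _ _)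
    refine ⟨R ⊗[A] Et, inferInstance, inferInstance, inferInstance, Φ, ?_⟩
    rintro _ rfl
    let et' : Submonoid.powers et := ⟨et, Submonoid.mem_powers et⟩
    refine ⟨1 ⊗ₜ IsLocalization.mk' Et eb et', ?_⟩
    have h1 : Φ (1 ⊗ₜ IsLocalization.mk' Et eb et') = ψ (IsLocalization.mk' Et eb et') := by
      simp [Φ]
    rw [h1]
    have h2 : ψ (IsLocalization.mk' Et eb et') * algebraMap B S (t : B) = algebraMap B S b := by
      have h3 := congrArg ψ (IsLocalization.mk'_spec Et eb et')
      rw [map_mul] at h3
      have h4 : ∀ e : E, ψ (algebraMap E Et e) = algebraMap B S (φ e) := by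
        intro e
        exact IsLocalization.lift_eq _ e
      rw [h4, h4, het, heb] at h3
      exact h3
    have h5 : IsLocalization.mk' S b t * algebraMap B S (t : B) = algebraMap B S b :=
      IsLocalization.mk'_spec S b t
    exact (hunitS _ t.2).mul_left_injective (h2.trans h5.symm)
  exact isRegularHom_cpl_of_local_inEtImage hmax hres hU (hA.2 m)

end Groth.Agent.H78.PairHensG
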